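import Cfsg.Agent.Lib.Lie.MultExc.MatCert.Code
import Cfsg.Agent.Lib.Spor.SchurCert.PermBridge

/-!
The certificates for a matrix group given through listed elements with coded columns.
-/

set_option autoImplicit false
set_option linter.all false

namespace CfsgLib.Lie.MultExc.MatCert

open Matrix CfsgLib.Spor.SchurCert

/-- Two words agree on the units. -/
def sameU (p n : ℕ) (Ms : List (List ℕ)) (u v : List ℕ) : Bool :=
  ((u ++ v).all fun k => Nat.blt k Ms.length) &&
    (List.range n).all fun c => Nat.beq (comp p n Ms u (p ^ c)) (comp p n Ms v (p ^ c))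

/-- The identities between the Sylow words and the conjugations. -/
def identU (p n : ℕ) (Ms : List (List ℕ)) (C : Cert) (sw gw : List (List ℕ)) : Bool :=
  Nat.beq sw.length C.m && (sw.all fun s => s.all fun x => Nat.blt x Ms.length) &&
    (C.rules.all fun r => sameU p n Ms (spell sw r.1) (spell sw r.2)) &&
    (List.range C.maps.length).all fun f => (C.pairs f).all fun P =>
      sameU p n Ms (gw.getD f [] ++ spell sw P.1) (spell sw P.2 ++ gw.getD f [])

/-- Orbits inside the subgroup. -/
def orbU (p n : ℕ) (Ms : List (List ℕ)) (sw : List (List ℕ)) :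
    List ℕ → List (ℕ × List (ℕ × List ℕ)) → Bool
  | _, [] => true
  | fixed, (b, T) :: rest =>
    Nat.blt b (p ^ n) && increasing (T.map Prod.fst) &&
      (T.all fun e => (e.2.all fun i => Nat.blt i sw.length) &&
        (fixed.all fun c => Nat.beq (comp p n Ms (spell sw e.2) c) c) &&
        Nat.beq (comp p n Ms (spell sw e.2) b) e.1) &&
      orbU p n Ms sw (b :: fixed) rest

/-- All checks of one certificate. -/
def checksU (p n : ℕ) (Ms : List (List ℕ)) (C : Cert) (sw gw : List (List ℕ))
    (O : List (ℕ × List (ℕ × List ℕ))) : Bool :=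
  identU p n Ms C sw gw && orbU p n Ms sw [] O &&
    Nat.ble (C.p ^ C.m) (O.map fun e => e.2.length).prod && C.shapeOK

variable {F : Type*} [Field F] {p n : ℕ} [CharP F p] {G : Type*} [Group G]
variable (rho : G →* Matrix (Fin n) (Fin n) F) {Ms : List (List ℕ)}

/-- A group element with each listed matrix. -/
def HasElts (Ms : List (List ℕ)) : Prop :=
  ∀ k < Ms.length, ∃ g : G, rho g = toM F p n (Ms.getD k [])

/-- The action on vectors. -/
@[reducible] def vecAct : MulAction G (Fin n → F) where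
  smul g v := rho g *ᵥ v
  one_smul v := by show rho 1 *ᵥ v = v; rw [map_one, one_mulVec]
  mul_smul g h v := by show rho (g * h) *ᵥ v = rho g *ᵥ (rho h *ᵥ v); rw [map_mul, mulVec_mulVec]

variable {rho} (hmem : HasElts (p := p) rho Ms)
include hmem

theorem exists_word (hp : 0 < p) : ∀ w : List ℕ, (∀ k ∈ w, k < Ms.length) →
    ∃ g : G, ∀ x, rho g *ᵥ vec F p n x = vec F p n (comp p n Ms w x)
  | [], _ => ⟨1, fun x => by rw [map_one, one_mulVec]; rfl⟩
  | k :: w, h => by
    obtain ⟨g, hg⟩ := exists_word hp w fun a ha => h a (List.mem_cons_of_mem _ ha)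
    obtain ⟨g₀, hg₀⟩ := hmem k (h k List.mem_cons_self)
    exact ⟨g₀ * g, fun x => by rw [map_mul, ← mulVec_mulVec, hg, hg₀, app_spec hp]; rfl⟩

omit hmem

/-- The element of a word. -/
noncomputable def melU (hp : 0 < p) (hmem : HasElts (p := p) rho Ms) (w : List ℕ) : G :=
  if h : ∀ k ∈ w, k < Ms.length then (exists_word hmem hp w h).choose else 1

theorem melU_spec (hp : 0 < p) (hmem : HasElts (p := p) rho Ms) {w : List ℕ} (h : ∀ k ∈ w, k < Ms.length) (x : ℕ) :
    rho (melU hp hmem w) *ᵥ vec F p n x = vec F p n (comp p n Ms w x) := by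
  rw [melU, dif_pos h]
  exact (exists_word hmem hp w h).choose_spec x

variable (hinj : Function.Injective rho) (hp : 1 < p)
include hinj

theorem melU_append (hmem : HasElts (p := p) rho Ms) {u v : List ℕ} (hu : ∀ k ∈ u, k < Ms.length)
    (hv : ∀ k ∈ v, k < Ms.length) : melU (by omega : 0 < p) hmem (u ++ v) =
      melU (by omega : 0 < p) hmem u * melU (by omega : 0 < p) hmem v :=
  hinj (eq_of_units hp fun c => by
    rw [melU_spec _ hmem fun x hx => (List.mem_append.1 hx).elim (hu x) (hv x), map_mul, ← mulVec_mulVec,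
      melU_spec _ hmem hv, melU_spec _ hmem hu, comp_append])

theorem melU_spell (hmem : HasElts (p := p) rho Ms) {sw : List (List ℕ)}
    (hlt : ∀ s ∈ sw, ∀ x ∈ s, x < Ms.length) : ∀ v : List ℕ,
      melU (by omega : 0 < p) hmem (spell sw v) = wv (fun i => melU (by omega : 0 < p) hmem (sw.getD i [])) v
  | [] => hinj (eq_of_units hp fun c => by
      rw [melU_spec _ hmem (spell_lt hlt [])]
      simp [spell, comp, wv_nil])
  | a :: v => by
    have e : spell sw (a :: v) = spell sw [a] ++ spell sw v := by simp [spell]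
    have e1 : spell sw [a] = sw.getD a [] := by simp [spell]
    rw [e, melU_append hinj hp hmem (spell_lt hlt _) (spell_lt hlt _), melU_spell hmem hlt v, e1, wv_cons]

/-- The elements of a subgroup fixing listed coded vectors. -/
def fixU (hp : 1 < p) (S : Subgroup G) : List ℕ → Subgroup G
  | [] => S
  | b :: bs => fixU hp S bs ⊓ @MulAction.stabilizer G (Fin n → F) _ (vecAct rho) (vec F p n b)

omit hinj in
theorem mem_fixU {S : Subgroup G} {g : G} : ∀ {bs : List ℕ},
    g ∈ fixU (rho := rho) hp S bs ↔ g ∈ S ∧ ∀ b ∈ bs, rho g *ᵥ vec F p n b = vec F p n b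
  | [] => by simp [fixU]
  | b :: bs => by
    rw [fixU, Subgroup.mem_inf, mem_fixU]
    simp only [List.mem_cons, forall_eq_or_imp]
    exact ⟨fun h => ⟨h.1.1, h.2, h.1.2⟩, fun h => ⟨⟨h.1, h.2.2⟩, h.2.1⟩⟩

theorem orbU_count [Finite G] (hmem : HasElts (p := p) rho Ms) {sw : List (List ℕ)}
    (hlt : ∀ s ∈ sw, ∀ x ∈ s, x < Ms.length) (S : Subgroup G)
    (hS : ∀ v : List ℕ, (∀ i ∈ v, i < sw.length) → melU (by omega : 0 < p) hmem (spell sw v) ∈ S) :
    ∀ (T : List (ℕ × List (ℕ × List ℕ))) (fixed : List ℕ), (∀ c ∈ fixed, c < p ^ n) →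
      orbU p n Ms sw fixed T = true →
      (T.map fun e => e.2.length).prod ≤ Nat.card ↥(fixU (rho := rho) hp S fixed)
  | [], fixed, _, _ => by simp [Nat.one_le_iff_ne_zero, Nat.card_pos.ne']
  | (b, T) :: rest, fixed, hf, hok => by
    letI := vecAct rho
    simp only [orbU, Bool.and_eq_true, List.all_eq_true] at hok
    obtain ⟨⟨⟨hb', hasc⟩, hT⟩, hrest⟩ := hok
    have hb : b < p ^ n := Nat.le_of_ble_eq_true hb'
    have ih := orbU_count hmem hlt S hS rest (b :: fixed) (by simpa [hb] using hf) hrest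
    set K := fixU (rho := rho) hp S fixed
    have hK : Nat.card ↥(fixU (rho := rho) hp S (b :: fixed)) * (MulAction.orbit K (vec F p n b)).ncard = Nat.card K := by
      have e : Nat.card ↥(fixU (rho := rho) hp S (b :: fixed)) = Nat.card (MulAction.stabilizer K (vec F p n b)) :=
        Nat.card_congr ⟨fun g => ⟨⟨g.1, g.2.1⟩, g.2.2⟩, fun g => ⟨g.1.1, g.1.2, g.2⟩, fun g => rfl, fun g => rfl⟩
      rw [e, ← MulAction.index_stabilizer, Subgroup.card_mul_index]
    rw [← hK, List.map_cons, List.prod_cons, Nat.mul_comm]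
    refine Nat.mul_le_mul ih ?_
    have hval : ∀ i : Fin T.length, rho (melU (by omega : 0 < p) hmem (spell sw (T[i.1]).2)) *ᵥ vec F p n b =
        vec F p n (T[i.1]).1 := fun i => by
      rw [melU_spec _ hmem (spell_lt hlt _), Nat.eq_of_beq_eq_true (hT _ (List.getElem_mem i.2)).2]
    let f : Fin T.length → ↥(MulAction.orbit K (vec F p n b)) := fun i =>
      ⟨melU (by omega : 0 < p) hmem (spell sw (T[i.1]).2) • vec F p n b, ⟨⟨_, (mem_fixU hp).2
        ⟨hS _ fun a ha => Nat.le_of_ble_eq_true ((hT _ (List.getElem_mem i.2)).1.1 a ha), fun c hc => by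
          rw [melU_spec _ hmem (spell_lt hlt _),
            Nat.eq_of_beq_eq_true ((hT _ (List.getElem_mem i.2)).1.2 c hc)]⟩⟩, rfl⟩⟩
    have hinjf : Function.Injective f := fun i j e => by
      have e' : vec F p n (T[i.1]).1 = vec F p n (T[j.1]).1 :=
        (hval i).symm.trans ((congrArg Subtype.val e).trans (hval j))
      have hlti : ∀ k : Fin T.length, (T[k.1]).1 < p ^ n := fun k => by
        rw [← Nat.eq_of_beq_eq_true (hT _ (List.getElem_mem k.2)).2]
        exact comp_lt (by omega) Ms hb _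
      have e2 := vec_inj (by omega : 0 < p) (hlti i) (hlti j) e'
      have hnd : (T.map Prod.fst).Nodup := (increasing_spec hasc).imp ne_of_lt
      exact Fin.ext ((hnd.getElem_inj_iff (hi := by simpa using i.2) (hj := by simpa using j.2)).1
        (by simpa using e2))
    have hfin : (MulAction.orbit K (vec F p n b)).Finite := Set.finite_range _
    haveI := hfin.to_subtype
    have := Nat.card_le_card_of_injective f hinjf
    rwa [Nat.card_fin, Nat.card_coe_set_eq] at this

include hp in
/-- The bound at the prime of a certificate. -/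
theorem part_leU [Finite G] (hmem : HasElts (p := p) rho Ms) {Γ : Type*} [Group Γ] [Finite Γ] {τ : Γ →* G}
    (hτ : Cfsg.IsStemExtension τ) (C : Cert) (hC : C.p.Prime) {e : ℕ} (hN : C.N = C.p ^ e) (hb : C.bound < C.N)
    (hfac : (Nat.card G).factorization C.p = C.m) {sw gw : List (List ℕ)} {O : List (ℕ × List (ℕ × List ℕ))}
    (hchk : checksU p n Ms C sw gw O = true) (hlin : C.linOK = true)
    (P : Subgroup Γ) (hP : P ≤ τ.ker) (hPp : IsPGroup C.p P) : Nat.card P ≤ C.bound := by
  haveI : Fact C.p.Prime := ⟨hC⟩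
  simp only [checksU, Bool.and_eq_true] at hchk
  obtain ⟨⟨⟨hid, hsub⟩, hT⟩, hshape⟩ := hchk
  simp only [identU, sameU, Bool.and_eq_true, List.all_eq_true, List.mem_range] at hid
  obtain ⟨⟨⟨hswl, hswlt⟩, hr⟩, hm⟩ := hid
  have hlen : sw.length = C.m := Nat.eq_of_beq_eq_true hswl
  have hlt : ∀ s ∈ sw, ∀ x ∈ s, x < Ms.length := fun s hs x hx => Nat.le_of_ble_eq_true (hswlt s hs x hx)
  have hp0 : 0 < p := by omega
  have hsame : ∀ {u v : List ℕ}, (∀ x ∈ u ++ v, Nat.blt x Ms.length = true) →
      (∀ c < n, Nat.beq (comp p n Ms u (p ^ c)) (comp p n Ms v (p ^ c)) = true) →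
      melU hp0 hmem u = melU hp0 hmem v := by
    intro u v h1 h2
    refine hinj (eq_of_units hp fun c => ?_)
    rw [melU_spec hp0 hmem fun x hx => Nat.le_of_ble_eq_true (h1 x (List.mem_append_left _ hx)),
      melU_spec hp0 hmem fun x hx => Nat.le_of_ble_eq_true (h1 x (List.mem_append_right _ hx)),
      Nat.eq_of_beq_eq_true (h2 c.1 c.2)]
  obtain ⟨γ, hγ⟩ : ∃ γ : ℕ → G, γ = fun i => melU hp0 hmem (sw.getD i []) := ⟨_, rfl⟩
  have hspell : ∀ v, melU hp0 hmem (spell sw v) = wv γ v := fun v => hγ ▸ melU_spell hinj hp hmem hlt v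
  have hrules : ∀ r, r < C.rules.length → wv γ (C.rules.getD r ([], [])).1 = wv γ (C.rules.getD r ([], [])).2 :=
    fun r hr0 => by
      rw [← hspell, ← hspell]
      obtain ⟨a, b⟩ := hr _ (show C.rules.getD r ([], []) ∈ C.rules by
        rw [List.getD_eq_getElem _ _ hr0]; exact List.getElem_mem hr0)
      exact hsame a b
  have hcard : C.p ^ C.m ≤ Nat.card (Subgroup.closure (γ '' {i | i < C.m}) : Subgroup G) := by
    have hS : ∀ v : List ℕ, (∀ i ∈ v, i < sw.length) →
        melU hp0 hmem (spell sw v) ∈ Subgroup.closure (γ '' {i | i < C.m}) := fun v hv => by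
      rw [hspell]
      refine list_prod_mem fun g hg => ?_
      obtain ⟨i, hi, rfl⟩ := List.mem_map.1 hg
      exact Subgroup.subset_closure ⟨i, hlen ▸ hv i hi, rfl⟩
    exact (Nat.le_of_ble_eq_true hT).trans (orbU_count hinj hp hmem hlt _ hS O [] (by simp) hsub)
  refine pGroup_card_le C hτ hN hb γ (fun f => melU hp0 hmem (gw.getD f [])) hrules (fun f hf i hi => ?_) hshape
    hlin hcard ?_ P hP hPp
  · obtain ⟨h1, h2⟩ := hm f hf _ (List.getElem_mem hi)
    have hgl : ∀ x ∈ gw.getD f [], x < Ms.length := fun x hx =>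
      Nat.le_of_ble_eq_true (h1 x (List.mem_append_left _ (List.mem_append_left _ hx)))
    have e := hsame h1 h2
    rw [melU_append hinj hp hmem hgl (spell_lt hlt _), melU_append hinj hp hmem (spell_lt hlt _) hgl, hspell,
      hspell] at e
    rw [List.getD_eq_getElem _ _ hi, mul_inv_eq_iff_eq_mul]
    exact e
  · simp only [Cert.shapeOK, Bool.and_eq_true, List.all_eq_true, List.mem_range, Bool.or_eq_true,
      Bool.not_eq_true', beq_iff_eq] at hshape
    have hup := (segment_bound C hC.pos γ ⊥ (fun b hb d => by rw [Subgroup.mem_bot.1 hb, one_mul, mul_one])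
      hshape.2 fun r hr0 => ⟨1, one_mem _, by rw [mul_one]; exact hrules r hr0⟩).1
    rw [bot_sup_eq, Subgroup.card_bot, mul_one] at hup
    intro hd
    have hmul := (Subgroup.closure (γ '' {i | i < C.m})).card_mul_index
    rw [le_antisymm hup hcard] at hmul
    have hd' : C.p ^ (C.m + 1) ∣ Nat.card G := by rw [← hmul, pow_succ]; exact mul_dvd_mul_left _ hd
    have := (Nat.Prime.pow_dvd_iff_le_factorization hC Nat.card_pos.ne').1 hd'
    omega

end CfsgLib.Lie.MultExc.MatCert
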