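import Mathlib

/-!
Vectors over a prime field as numbers in base `p`, and matrices as lists of the codes of their columns.
-/

set_option autoImplicit false
set_option linter.all false

namespace CfsgLib.Lie.MultExc.MatCert

open Matrix Finset

/-- A digit. -/
def dg (p x i : ℕ) : ℕ := x / p ^ i % p

/-- The number of the digits `f k, …, f (k + r - 1)`. -/
def pack (p : ℕ) (f : ℕ → ℕ) : ℕ → ℕ → ℕ
  | _, 0 => 0
  | k, r + 1 => f k % p + p * pack p f (k + 1) r

theorem pack_lt {p : ℕ} (hp : 0 < p) (f : ℕ → ℕ) : ∀ r k, pack p f k r < p ^ r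
  | 0, _ => by simp [pack]
  | r + 1, k => by
    rw [pack, pow_succ']
    have h1 := pack_lt hp f r (k + 1)
    have h2 := Nat.mod_lt (f k) hp
    calc f k % p + p * pack p f (k + 1) r < p * (pack p f (k + 1) r + 1) := by rw [mul_add, mul_one]; omega
      _ ≤ p * p ^ r := Nat.mul_le_mul_left _ h1

theorem dg_pack {p : ℕ} (hp : 0 < p) (f : ℕ → ℕ) : ∀ r k i, i < r → dg p (pack p f k r) i = f (k + i) % p
  | 0, _, _, h => absurd h (Nat.not_lt_zero _)
  | r + 1, k, 0, _ => by simp [dg, pack]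
  | r + 1, k, i + 1, h => by
    have ih := dg_pack hp f r (k + 1) i (Nat.lt_of_succ_lt_succ h)
    rw [dg] at ih ⊢
    rw [pack, pow_succ', ← Nat.div_div_eq_div_mul, Nat.add_mul_div_left _ _ hp,
      Nat.div_eq_of_lt (Nat.mod_lt _ hp), Nat.zero_add, ih, show k + 1 + i = k + (i + 1) by omega]

theorem dg_inj {p : ℕ} (hp : 0 < p) : ∀ n x y, x < p ^ n → y < p ^ n → (∀ i < n, dg p x i = dg p y i) → x = y
  | 0, x, y, hx, hy, _ => by simp at hx hy; omega
  | n + 1, x, y, hx, hy, h => by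
    have h0 := h 0 (Nat.succ_pos _)
    simp only [dg, pow_zero, Nat.div_one] at h0
    have ih := dg_inj hp n (x / p) (y / p) (by rw [Nat.div_lt_iff_lt_mul hp]; rwa [← pow_succ])
      (by rw [Nat.div_lt_iff_lt_mul hp]; rwa [← pow_succ]) fun i hi => by
        have := h (i + 1) (Nat.succ_lt_succ hi)
        simpa only [dg, pow_succ', ← Nat.div_div_eq_div_mul] using this
    rw [← Nat.div_add_mod x p, ← Nat.div_add_mod y p, ih, h0]

theorem dg_unit {p : ℕ} (hp : 1 < p) (c i : ℕ) : dg p (p ^ c) i = if i = c then 1 else 0 := by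
  rw [dg]
  rcases lt_trichotomy i c with h | h | h
  · rw [Nat.pow_div h.le (by omega), if_neg h.ne, show c - i = (c - i - 1) + 1 by omega, pow_succ]
    simp
  · subst h
    rw [Nat.div_self (pow_pos (by omega) _), if_pos rfl, Nat.mod_eq_of_lt hp]
  · rw [Nat.div_eq_of_lt (Nat.pow_lt_pow_right hp h), if_neg h.ne', Nat.zero_mod]

theorem dg_two_units {p : ℕ} (hp : 1 < p) {a b : ℕ} (hab : a < b) (i : ℕ) :
    dg p (p ^ a + p ^ b) i = (if i = a then 1 else 0) + (if i = b then 1 else 0) := by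
  have e : p ^ a + p ^ b = p ^ a * (1 + p * p ^ (b - a - 1)) := by
    rw [mul_add, mul_one, ← pow_succ', ← pow_add, show a + (b - a - 1 + 1) = b by omega]
  rw [dg]
  rcases lt_trichotomy i a with h | h | h
  · rw [if_neg h.ne, if_neg (by omega), e, show p ^ a = p ^ i * p ^ (a - i - 1 + 1) by rw [← pow_add]; congr 1; omega,
      mul_assoc, Nat.mul_div_cancel_left _ (pow_pos (by omega) _), pow_succ', mul_assoc, Nat.mul_mod_right]
  · subst h
    rw [if_pos rfl, if_neg (by omega), e, Nat.mul_div_cancel_left _ (pow_pos (by omega) _), Nat.add_mul_mod_self_left,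
      Nat.mod_eq_of_lt hp]
  · rw [if_neg (by omega : ¬ i = a), Nat.zero_add, show p ^ i = p ^ (a + 1) * p ^ (i - (a + 1)) by rw [← pow_add]; congr 1; omega,
      ← Nat.div_div_eq_div_mul, e, pow_succ, Nat.mul_div_mul_left _ _ (pow_pos (by omega) _), Nat.add_mul_div_left _ _ (by omega),
      Nat.div_eq_of_lt hp, Nat.zero_add]
    have := dg_unit hp (b - a - 1) (i - (a + 1))
    rw [dg] at this
    rw [this]
    exact if_congr (by omega) rfl rfl

/-- A dot product of digits. -/
def dotd (p : ℕ) (M : List ℕ) (x r : ℕ) : ℕ → ℕ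
  | 0 => 0
  | k + 1 => dg p x k * dg p (M.getD k 0) r + dotd p M x r k

theorem dotd_eq (p : ℕ) (M : List ℕ) (x r : ℕ) : ∀ k,
    dotd p M x r k = ∑ c ∈ range k, dg p x c * dg p (M.getD c 0) r
  | 0 => by simp [dotd]
  | k + 1 => by rw [dotd, dotd_eq p M x r k, sum_range_succ, Nat.add_comm]

/-- A matrix applied to a vector. -/
def app (p n : ℕ) (M : List ℕ) (x : ℕ) : ℕ := pack p (fun r => dotd p M x r n) 0 n

variable {F : Type*} [Field F] {p n : ℕ}

/-- The vector of a code. -/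
def vec (F : Type*) [Field F] (p n x : ℕ) : Fin n → F := fun i => ((dg p x i.1 : ℕ) : F)

/-- The matrix of a list of columns. -/
def toM (F : Type*) [Field F] (p n : ℕ) (M : List ℕ) : Matrix (Fin n) (Fin n) F :=
  Matrix.of fun r c => ((dg p (M.getD c.1 0) r.1 : ℕ) : F)

theorem app_lt (hp : 0 < p) (M : List ℕ) (x : ℕ) : app p n M x < p ^ n := pack_lt hp _ _ _

theorem app_spec [CharP F p] (hp : 0 < p) (M : List ℕ) (x : ℕ) :
    toM F p n M *ᵥ vec F p n x = vec F p n (app p n M x) := by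
  funext r
  show ∑ c : Fin n, toM F p n M r c * vec F p n x c = ((dg p (app p n M x) r.1 : ℕ) : F)
  rw [app, dg_pack hp _ n 0 r.1 r.2, Nat.zero_add, ← (CharP.cast_eq_mod F p _ : ((_ : ℕ) : F) = _), dotd_eq,
    Nat.cast_sum, ← Fin.sum_univ_eq_sum_range]
  exact Finset.sum_congr rfl fun c _ => by rw [Nat.cast_mul, mul_comm]; rfl

theorem vec_inj [CharP F p] (hp : 0 < p) {x y : ℕ} (hx : x < p ^ n) (hy : y < p ^ n)
    (h : vec F p n x = vec F p n y) : x = y :=
  dg_inj hp n x y hx hy fun i hi =>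
    Nat.ModEq.eq_of_lt_of_lt ((CharP.natCast_eq_natCast F p).1 (congrFun h ⟨i, hi⟩)) (Nat.mod_lt _ hp)
      (Nat.mod_lt _ hp)

theorem vec_unit (hp : 1 < p) (c : Fin n) : vec F p n (p ^ c.1) = Pi.single c 1 := funext fun i => by
  rw [vec, dg_unit hp, Pi.single_apply]
  by_cases h : i = c
  · rw [if_pos (congrArg Fin.val h), if_pos h, Nat.cast_one]
  · rw [if_neg fun e => h (Fin.ext e), if_neg h, Nat.cast_zero]

theorem vec_two_units (hp : 1 < p) {a b : Fin n} (hab : a.1 < b.1) :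
    vec F p n (p ^ a.1 + p ^ b.1) = Pi.single a 1 + Pi.single b 1 := funext fun i => by
  rw [vec, dg_two_units hp hab, Pi.add_apply, Pi.single_apply, Pi.single_apply, Nat.cast_add]
  congr 1 <;> split <;> rename_i h <;> simp_all [Fin.ext_iff]

/-- A word applied to a vector. -/
def comp (p n : ℕ) (Ms : List (List ℕ)) (w : List ℕ) (x : ℕ) : ℕ :=
  w.foldr (fun k y => app p n (Ms.getD k []) y) x

theorem comp_lt (hp : 0 < p) (Ms : List (List ℕ)) {x : ℕ} (hx : x < p ^ n) : ∀ w, comp p n Ms w x < p ^ n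
  | [] => hx
  | _ :: _ => app_lt hp _ _

theorem comp_append (Ms : List (List ℕ)) (u v : List ℕ) (x : ℕ) :
    comp p n Ms (u ++ v) x = comp p n Ms u (comp p n Ms v x) := List.foldr_append

/-- Powers applied to a vector. -/
def iter (p n : ℕ) (M : List ℕ) : ℕ → ℕ → ℕ
  | 0, x => x
  | k + 1, x => app p n M (iter p n M k x)

theorem iter_spec [CharP F p] (hp : 0 < p) (M : List ℕ) (x : ℕ) : ∀ k,
    (toM F p n M ^ k) *ᵥ vec F p n x = vec F p n (iter p n M k x)
  | 0 => by rw [pow_zero, one_mulVec]; rfl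
  | k + 1 => by rw [pow_succ', ← mulVec_mulVec, iter_spec hp M x k, app_spec hp]; rfl

theorem eq_of_units (hp : 1 < p) {A B : Matrix (Fin n) (Fin n) F}
    (h : ∀ c : Fin n, A *ᵥ vec F p n (p ^ c.1) = B *ᵥ vec F p n (p ^ c.1)) : A = B := by
  refine Matrix.ext fun r c => ?_
  have e := congrFun (h c) r
  rw [vec_unit hp, mulVec_single, mulVec_single] at e
  simpa using e

end CfsgLib.Lie.MultExc.MatCert
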