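import Cfsg.Agent.Lib.Lie.MultExc.MatCert.Bridge
import Cfsg.Agent.Lib.Lie.Mult.Orth.Geom
import Cfsg.Agent.Lib.Orth.Facts

/-!
Listed matrices lie in `Omega`: each is a product of two isometries of odd order.
-/

set_option autoImplicit false
set_option linter.all false

namespace CfsgLib.Lie.MultExc.MatCert

open scoped Matrix
open Matrix Cfsg.Geo CfsgLib.Orth CfsgLib.Perm.Asch CfsgLib.Perm.Trans CfsgLib.Perm.Trans.Quad

/-- A coded matrix keeps the coded form on the units and on their sums. -/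
def isoU (p n : ℕ) (Qc : ℕ → ℕ) (M : List ℕ) : Bool :=
  (List.range n).all fun a => Nat.beq (Qc (app p n M (p ^ a))) (Qc (p ^ a)) &&
    (List.range a).all fun b => Nat.beq (Qc (app p n M (p ^ b + p ^ a))) (Qc (p ^ b + p ^ a))

/-- An odd power is trivial. -/
def oneU (p n : ℕ) (M : List ℕ) (k : ℕ) : Bool :=
  (k % 2 == 1) && (List.range n).all fun c => Nat.beq (iter p n M k (p ^ c)) (p ^ c)

/-- A table entry: the matrix and two factors with their orders. -/
def entryOK (p n : ℕ) (Qc : ℕ → ℕ) (E : List ℕ × (List ℕ × ℕ) × (List ℕ × ℕ)) : Bool :=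
  isoU p n Qc E.2.1.1 && oneU p n E.2.1.1 E.2.1.2 && isoU p n Qc E.2.2.1 && oneU p n E.2.2.1 E.2.2.2 &&
    (List.range n).all fun c => Nat.beq (app p n E.1 (p ^ c)) (app p n E.2.1.1 (app p n E.2.2.1 (p ^ c)))

variable {ι : Type} [Fintype ι] [DecidableEq ι] {F : Type*} [Field F] [Fintype F] {p n : ℕ} [CharP F p]
variable {Q : (ι → F) → F}

local notation "pol" => QuadraticMap.polar

/-- the matrix of an element in the coordinates -/
def rhoHom (e : ι ≃ Fin n) (Q : (ι → F) → F) : ↥(Cfsg.Omega F Q) →* Matrix (Fin n) (Fin n) F where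
  toFun g := (g.1.1 : Matrix ι ι F).submatrix e.symm e.symm
  map_one' := by simp
  map_mul' g h := by
    show ((g.1.1 * h.1.1 : GL ι F) : Matrix ι ι F).submatrix e.symm e.symm = _
    rw [Units.val_mul, Matrix.submatrix_mul_equiv]

theorem rhoHom_injective (e : ι ≃ Fin n) : Function.Injective (rhoHom e Q) := fun g h hgh =>
  Subtype.ext (Subtype.ext (Units.ext (Matrix.ext fun i j => by
    simpa [rhoHom] using congrFun (congrFun hgh (e i)) (e j))))

variable (hQ : IsNondegenerateQuadraticForm Q) (hp : 1 < p) (e : ι ≃ Fin n) (Qc : ℕ → ℕ)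
  (hQc : ∀ x, Q (vec F p n x ∘ e) = (Qc x : F))
include hQ hp hQc

theorem exists_iso_of_code {M : List ℕ} (h : isoU p n Qc M = true) :
    ∃ g : ↥(Cfsg.isometryGroup F Q), ((g : GL ι F) : Matrix ι ι F) = (toM F p n M).submatrix e e := by
  simp only [isoU, Bool.and_eq_true, List.all_eq_true, List.mem_range] at h
  obtain ⟨A, hA⟩ : ∃ A, A = (toM F p n M).submatrix e e := ⟨_, rfl⟩
  have hact : ∀ x, A *ᵥ (vec F p n x ∘ e) = vec F p n (app p n M x) ∘ e := fun x => by
    rw [hA, Matrix.submatrix_mulVec_equiv, Function.comp_assoc, Equiv.self_comp_symm, Function.comp_id,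
      app_spec (by omega)]
  have hone : ∀ i : ι, (Pi.single i (1 : F) : ι → F) = vec F p n (p ^ (e i).1) ∘ e := fun i => by
    funext j
    rw [Function.comp_apply, vec_unit hp, Pi.single_apply, Pi.single_apply]
    exact if_congr e.injective.eq_iff.symm rfl rfl
  have hq : ∀ i, Q (A *ᵥ Pi.single i 1) = Q (Pi.single i 1) := fun i => by
    rw [hone, hact, hQc, hQc, Nat.eq_of_beq_eq_true (h _ (e i).2).1]
  have hsum : ∀ i j, (e i).1 < (e j).1 → Q (A *ᵥ (Pi.single i 1 + Pi.single j 1)) =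
      Q (Pi.single i (1 : F) + Pi.single j 1) := fun i j hlt => by
    have e2 : (Pi.single i (1 : F) + Pi.single j 1 : ι → F) = vec F p n (p ^ (e i).1 + p ^ (e j).1) ∘ e := by
      funext k
      rw [Function.comp_apply, vec_two_units hp hlt, Pi.add_apply, Pi.add_apply, Pi.single_apply, Pi.single_apply,
        Pi.single_apply, Pi.single_apply]
      congr 1 <;> exact if_congr e.injective.eq_iff.symm rfl rfl
    rw [e2, hact, hQc, hQc, Nat.eq_of_beq_eq_true ((h _ (e j).2).2 _ hlt)]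
  have hb : ∀ i j, pol Q (A *ᵥ Pi.single i 1) (A *ᵥ Pi.single j 1) = pol Q (Pi.single i (1 : F)) (Pi.single j 1) := by
    intro i j
    rcases lt_trichotomy (e i).1 (e j).1 with hlt | he | hlt
    · rw [QuadraticMap.polar, QuadraticMap.polar, ← Matrix.mulVec_add, hsum i j hlt, hq, hq]
    · obtain rfl := e.injective (Fin.ext he)
      rw [pself hQ, pself hQ, hq]
    · rw [pcomm, pcomm (Pi.single i (1 : F)), QuadraticMap.polar, QuadraticMap.polar, ← Matrix.mulVec_add,
        hsum j i hlt, hq, hq]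
  have hall : ∀ x, Q (A *ᵥ x) = Q x := fun x => by
    have hx : x = ∑ i, x i • (Pi.single i (1 : F) : ι → F) := by
      funext j
      simp [Finset.sum_apply, Pi.single_apply]
    have hAx : A *ᵥ x = ∑ i, x i • (A *ᵥ Pi.single i 1) := by
      conv_lhs => rw [hx, Matrix.mulVec_sum]
      exact Finset.sum_congr rfl fun i _ => Matrix.mulVec_smul _ _ _
    rw [hAx]
    conv_rhs => rw [hx]
    exact (Mult.Orth.q_sum_eq hQ _ _ hq hb x Finset.univ).1
  have hu : IsUnit A := Matrix.mulVec_injective_iff_isUnit.1 fun x y hxy => by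
    by_contra hne
    obtain ⟨z, hz⟩ := (hQ.nondegenerate (x - y) (sub_ne_zero.2 hne)).2
    refine hz ?_
    have h0 : A *ᵥ (x - y) = 0 := by rw [Matrix.mulVec_sub]; exact sub_eq_zero.2 hxy
    have e1 : pol Q (A *ᵥ z) (A *ᵥ (x - y)) = pol Q z (x - y) := by
      simp only [QuadraticMap.polar, ← Matrix.mulVec_add, hall]
    rw [h0, pzero_right hQ] at e1
    first
      | exact e1.symm
      | (rw [pcomm]; exact e1.symm)
  exact ⟨⟨hu.unit, mem_iso.2 hall⟩, by rw [← hA]; rfl⟩

theorem mem_omega_of_code (hn : 2 ≤ Fintype.card ι) (hex : Fintype.card F ≠ 2 ∨ Fintype.card ι ≠ 4)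
    {M : List ℕ} {k : ℕ} (h : isoU p n Qc M = true) (hk : oneU p n M k = true) :
    ∃ g : ↥(Cfsg.Omega F Q), rhoHom e Q g = toM F p n M := by
  obtain ⟨g, hg⟩ := exists_iso_of_code hQ hp e Qc hQc h
  simp only [oneU, Bool.and_eq_true, List.all_eq_true, List.mem_range, beq_iff_eq] at hk
  have hpow : g ^ k = 1 := by
    refine Subtype.ext (Units.ext ?_)
    rw [Subgroup.coe_pow, Units.val_pow_eq_pow_val, hg]
    have h1 : toM F p n M ^ k = 1 := eq_of_units hp fun c => by
      rw [iter_spec (by omega), Matrix.one_mulVec, Nat.eq_of_beq_eq_true (hk.2 c.1 c.2)]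
    have h2 : ∀ j : ℕ, (toM F p n M).submatrix e e ^ j = (toM F p n M ^ j).submatrix e e := fun j => by
      induction j with
      | zero => simp
      | succ j ih => rw [pow_succ, pow_succ, ih, Matrix.submatrix_mul_equiv]
    rw [h2, h1]
    simp
  haveI : (Cfsg.Omega F Q).Normal := by unfold Cfsg.Omega; infer_instance
  have h4 : (Cfsg.Omega F Q).index ∣ 4 := by
    rw [omega_index_eq hQ hn hex]
    by_cases h2 : (2 : F) = 0
    · rw [card_sqClass_two h2]; norm_num
    · rw [card_sqClass_odd h2]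
  have hmem4 : g ^ 4 ∈ Cfsg.Omega F Q := by
    obtain ⟨t, ht⟩ := h4
    rw [ht, pow_mul]
    exact pow_mem (Subgroup.pow_index_mem _ g) _
  have hg' : g ∈ Cfsg.Omega F Q := by
    rcases (show k % 4 = 1 ∨ k % 4 = 3 by omega) with hk4 | hk4
    · have : g = g ^ k * ((g ^ 4) ^ (k / 4))⁻¹ := by
        rw [← pow_mul, eq_mul_inv_iff_mul_eq, ← pow_succ']; congr 1; omega
      rw [this, hpow, one_mul]
      exact inv_mem (pow_mem hmem4 _)
    · have : g = (g ^ 4) ^ (k / 4 + 1) * (g ^ k)⁻¹ := by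
        rw [← pow_mul, eq_mul_inv_iff_mul_eq, ← pow_succ']; congr 1; omega
      rw [this, hpow, inv_one, mul_one]
      exact pow_mem hmem4 _
  refine ⟨⟨g, hg'⟩, ?_⟩
  show ((g : GL ι F) : Matrix ι ι F).submatrix e.symm e.symm = _
  rw [hg]
  simp

theorem hasElts_of_entries (hn : 2 ≤ Fintype.card ι) (hex : Fintype.card F ≠ 2 ∨ Fintype.card ι ≠ 4)
    (tab : List (List ℕ × (List ℕ × ℕ) × (List ℕ × ℕ))) (h : tab.all (entryOK p n Qc) = true) :
    HasElts (p := p) (rhoHom e Q) (tab.map Prod.fst) := by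
  intro k hk
  rw [List.length_map] at hk
  have hE := List.all_eq_true.1 h _ (List.getElem_mem hk)
  simp only [entryOK, Bool.and_eq_true, List.all_eq_true, List.mem_range] at hE
  obtain ⟨⟨⟨⟨a1, a2⟩, b1⟩, b2⟩, hc⟩ := hE
  obtain ⟨g, hg⟩ := mem_omega_of_code hQ hp e Qc hQc hn hex a1 a2
  obtain ⟨g', hg'⟩ := mem_omega_of_code hQ hp e Qc hQc hn hex b1 b2
  refine ⟨g * g', ?_⟩
  rw [map_mul, hg, hg', List.getD_eq_getElem _ _ (by rwa [List.length_map]), List.getElem_map]
  refine eq_of_units hp fun c => ?_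
  rw [← Matrix.mulVec_mulVec, app_spec (by omega), app_spec (by omega), app_spec (by omega),
    Nat.eq_of_beq_eq_true (hc c.1 c.2)]

end CfsgLib.Lie.MultExc.MatCert
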